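import Groth.Agent.CAlgAndre.Flat
import Groth.Agent.MvPSLib.Eval
import Groth.Agent.CAlgCohen.Structure
import Mathlib

/-!
# Formal structure of nodes: `Â[[x,y]]/(xy - α) → B̂`
-/

set_option autoImplicit false

universe u

open IsLocalRing

namespace Groth.Agent.NodeLift

theorem exists_limit {R : Type*} [CommRing R] (I : Ideal R) [IsAdicComplete I R] (f : ℕ → R)
    (hf : ∀ k, f (k + 1) - f k ∈ I ^ k) : ∃ L, ∀ k, L - f k ∈ I ^ k := by
  have h : ∀ {m n}, m ≤ n → f m ≡ f n [SMOD (I ^ m • ⊤ : Submodule R R)] := by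
    intro m n hmn
    rw [SModEq.sub_mem, smul_eq_mul, Ideal.mul_top]
    induction n, hmn using Nat.le_induction with
    | base => rw [sub_self]; exact zero_mem _
    | succ k hk ih =>
      rw [show f m - f (k + 1) = (f m - f k) - (f (k + 1) - f k) by ring]
      exact sub_mem ih (Ideal.pow_le_pow_right hk (hf k))
  obtain ⟨L, hL⟩ := IsPrecomplete.prec (inferInstance : IsPrecomplete I R) h
  refine ⟨L, fun k => ?_⟩
  have := (hL k).symm
  rwa [SModEq.sub_mem, smul_eq_mul, Ideal.mul_top] at this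

theorem mem_of_forall_sup_pow {R : Type*} [CommRing R] [IsLocalRing R] [IsNoetherianRing R] (n : Ideal R)
    (hn : n ≤ maximalIdeal R) (x : R) (h : ∀ k, x ∈ n ⊔ maximalIdeal R ^ k) : x ∈ n := by
  haveI : Nontrivial (R ⧸ n) := Ideal.Quotient.nontrivial_iff.2 (ne_top_of_le_ne_top (maximalIdeal.isMaximal R).ne_top hn)
  haveI := IsLocalRing.of_surjective' (Ideal.Quotient.mk n) Ideal.Quotient.mk_surjective
  rw [← Ideal.Quotient.eq_zero_iff_mem, ← Ideal.mem_bot,
    ← Ideal.iInf_pow_eq_bot_of_isLocalRing (I := maximalIdeal (R ⧸ n)) (maximalIdeal.isMaximal _).ne_top,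
    Ideal.mem_iInf]
  intro k
  have h1 := Ideal.mem_map_of_mem (Ideal.Quotient.mk n) (h k)
  rw [Ideal.map_sup, Ideal.map_quotient_self, bot_sup_eq, Ideal.map_pow] at h1
  exact Ideal.pow_right_mono (((local_hom_TFAE (Ideal.Quotient.mk n)).out 0 2).1
    (IsLocalHom.of_surjective _ Ideal.Quotient.mk_surjective)) k h1

/-- Nodal normal form: a surjection `Â[[x,y]]/(xy - α) → B̂`. -/
theorem exists_node_hom (A B : Type u) [CommRing A] [IsLocalRing A] [IsNoetherianRing A]
    [CommRing B] [IsLocalRing B] [IsNoetherianRing B] [Algebra A B] [IsLocalHom (algebraMap A B)]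
    (hres : Function.Bijective (ResidueField.map (algebraMap A B)))
    (u v : B)
    (huv : u * v ∈ (maximalIdeal A).map (algebraMap A B))
    (hgen : maximalIdeal B = Ideal.span {u, v} ⊔ (maximalIdeal A).map (algebraMap A B)) :
    ∃ (_ : Algebra (AdicCompletion (maximalIdeal A) A) (AdicCompletion (maximalIdeal B) B))
      (_ : IsScalarTower A (AdicCompletion (maximalIdeal A) A) (AdicCompletion (maximalIdeal B) B))
      (α : AdicCompletion (maximalIdeal A) A)
      (_ : α ∈ (maximalIdeal A).map (algebraMap A (AdicCompletion (maximalIdeal A) A)))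
      (ψ : (MvPowerSeries (Fin 2) (AdicCompletion (maximalIdeal A) A) ⧸ Ideal.span
          {(MvPowerSeries.X 0 * MvPowerSeries.X 1 -
            MvPowerSeries.C α :
              MvPowerSeries (Fin 2) (AdicCompletion (maximalIdeal A) A))})
          →ₐ[AdicCompletion (maximalIdeal A) A] AdicCompletion (maximalIdeal B) B),
      Function.Surjective ψ ∧
        ψ (Ideal.Quotient.mk _ (MvPowerSeries.X 0)) - algebraMap B (AdicCompletion (maximalIdeal B) B) u ∈
          (maximalIdeal A).map (algebraMap A (AdicCompletion (maximalIdeal B) B)) ∧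
        ψ (Ideal.Quotient.mk _ (MvPowerSeries.X 1)) - algebraMap B (AdicCompletion (maximalIdeal B) B) v ∈
          (maximalIdeal A).map (algebraMap A (AdicCompletion (maximalIdeal B) B)) := by
  obtain ⟨_, _, hl⟩ := CAlgAndre.exists_completion_algebra A B
  haveI := hl
  obtain ⟨hA, -, -⟩ := RegLocus.cpl_facts A
  obtain ⟨hB, -, -⟩ := RegLocus.cpl_facts B
  haveI : IsNoetherianRing (AdicCompletion (maximalIdeal A) A) := hA
  haveI : IsNoetherianRing (AdicCompletion (maximalIdeal B) B) := hB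
  let A' := AdicCompletion (maximalIdeal A) A
  let B' := AdicCompletion (maximalIdeal B) B
  set n : Ideal B' := (maximalIdeal A).map (algebraMap A B') with hn0
  have hn : n = (maximalIdeal A').map (algebraMap A' B') := by
    rw [hn0, AdicCompletion.maximalIdeal_eq_map, Ideal.map_map, ← IsScalarTower.algebraMap_eq]
  have hnle : n ≤ maximalIdeal B' := hn ▸ CAlgAndre.map_maximalIdeal_le A' B'
  set U := algebraMap B B' u with hU
  set V := algebraMap B B' v with hV
  have hgen' : maximalIdeal B' = Ideal.span {U, V} ⊔ n := by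
    rw [AdicCompletion.maximalIdeal_eq_map]
    conv_lhs => arg 2; rw [hgen]
    rw [Ideal.map_sup, Ideal.map_span, Ideal.map_map, ← IsScalarTower.algebraMap_eq, Set.image_pair]
  have hres' : ∀ b : B', ∃ a : A, b - algebraMap A B' a ∈ maximalIdeal B' := by
    intro b
    obtain ⟨b0, hb0⟩ := CAlgAndre.dense_completion B 1 b
    obtain ⟨r, hr⟩ := hres.2 (residue B b0)
    obtain ⟨a, rfl⟩ := residue_surjective r
    rw [ResidueField.map_residue] at hr
    refine ⟨a, ?_⟩
    rw [pow_one] at hb0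
    rw [show b - algebraMap A B' a = (b - algebraMap B B' b0) + algebraMap B B' (b0 - algebraMap A B a) by
      rw [map_sub, ← IsScalarTower.algebraMap_apply]; ring]
    refine add_mem hb0 ?_
    rw [AdicCompletion.maximalIdeal_eq_map]
    refine Ideal.mem_map_of_mem _ ?_
    rw [← residue_eq_zero_iff, map_sub, hr, sub_self]
  have hdec : ∀ U' V', U' - U ∈ n → V' - V ∈ n → ∀ b : B', ∃ (a : A') (p q : B'),
      b - (algebraMap A' B' a + p * U' + q * V') ∈ n := by
    intro U' V' hU' hV' b
    obtain ⟨a, ha⟩ := hres' b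
    rw [hgen'] at ha
    obtain ⟨x, hx, y, hy, hxy⟩ := Submodule.mem_sup.1 ha
    obtain ⟨p, q, rfl⟩ := Ideal.mem_span_pair.1 hx
    refine ⟨algebraMap A A' a, p, q, ?_⟩
    rw [show b - (algebraMap A' B' (algebraMap A A' a) + p * U' + q * V')
      = y - p * (U' - U) - q * (V' - V) by
        rw [← IsScalarTower.algebraMap_apply A A' B']; linear_combination -hxy]
    exact sub_mem (sub_mem hy (n.mul_mem_left _ hU')) (n.mul_mem_left _ hV')
  have hstep : ∀ (k : ℕ) (U' V' : B'), U' - U ∈ n → V' - V ∈ n → ∀ e ∈ n ^ k,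
      ∃ a ∈ maximalIdeal A' ^ k, ∃ P ∈ n ^ k, ∃ Q ∈ n ^ k,
        e - (algebraMap A' B' a + P * U' + Q * V') ∈ n ^ (k + 1) := by
    intro k U' V' hU' hV' e he
    have hmem : ∀ a ∈ maximalIdeal A' ^ k, algebraMap A' B' a ∈ n ^ k := fun a ha => by
      rw [hn, ← Ideal.map_pow]; exact Ideal.mem_map_of_mem _ ha
    rw [hn, ← Ideal.map_pow] at he
    unfold Ideal.map at he
    induction he using Submodule.span_induction with
    | mem x hx =>
      obtain ⟨c, hc, rfl⟩ := hx
      exact ⟨c, hc, 0, zero_mem _, 0, zero_mem _, by simp⟩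
    | zero => exact ⟨0, zero_mem _, 0, zero_mem _, 0, zero_mem _, by simp⟩
    | add x y _ _ hx hy =>
      obtain ⟨a, ha, P, hP, Q, hQ, hx⟩ := hx
      obtain ⟨a', ha', P', hP', Q', hQ', hy⟩ := hy
      refine ⟨a + a', add_mem ha ha', P + P', add_mem hP hP', Q + Q', add_mem hQ hQ', ?_⟩
      convert add_mem hx hy using 1
      rw [map_add]; ring
    | smul r x _ hx =>
      obtain ⟨a, ha, P, hP, Q, hQ, hx⟩ := hx
      obtain ⟨a', p, q, hr⟩ := hdec U' V' hU' hV' r
      refine ⟨a' * a, Ideal.mul_mem_left _ _ ha, r * P + p * algebraMap A' B' a,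
        add_mem (Ideal.mul_mem_left _ _ hP) (Ideal.mul_mem_left _ _ (hmem a ha)),
        r * Q + q * algebraMap A' B' a,
        add_mem (Ideal.mul_mem_left _ _ hQ) (Ideal.mul_mem_left _ _ (hmem a ha)), ?_⟩
      have h1 := add_mem ((n ^ (k + 1)).mul_mem_left r hx)
        (show (r - (algebraMap A' B' a' + p * U' + q * V')) * algebraMap A' B' a ∈ n ^ (k + 1) by
          rw [pow_succ']; exact Ideal.mul_mem_mul hr (hmem a ha))
      convert h1 using 1
      rw [smul_eq_mul, map_mul]; ring
  let P : ℕ → A' × B' × B' → Prop := fun k t => t.1 ∈ maximalIdeal A' ∧ t.2.1 - U ∈ n ∧ t.2.2 - V ∈ n ∧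
    t.2.1 * t.2.2 - algebraMap A' B' t.1 ∈ n ^ (k + 1)
  have hnext : ∀ k t, P k t → ∃ t', P (k + 1) t' ∧ t'.1 - t.1 ∈ maximalIdeal A' ^ k ∧
      t'.2.1 - t.2.1 ∈ maximalIdeal B' ^ k ∧ t'.2.2 - t.2.2 ∈ maximalIdeal B' ^ k := by
    rintro k ⟨α, X, Y⟩ ⟨h1, h2, h3, h4⟩
    dsimp only at h1 h2 h3 h4
    obtain ⟨a, ha, p, hp, q, hq, h⟩ := hstep (k + 1) X Y h2 h3 _ h4
    have hle : n ^ (k + 1) ≤ maximalIdeal B' ^ k :=
      (Ideal.pow_right_mono hnle _).trans (Ideal.pow_le_pow_right (Nat.le_succ k))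
    have hle1 : n ^ (k + 1) ≤ n := Ideal.pow_le_self (Nat.succ_ne_zero k)
    refine ⟨(α + a, X - q, Y - p), ⟨add_mem h1 (Ideal.pow_le_self (Nat.succ_ne_zero k) ha), ?_, ?_, ?_⟩,
      ?_, ?_, ?_⟩
    · rw [show X - q - U = (X - U) - q by ring]; exact sub_mem h2 (hle1 hq)
    · rw [show Y - p - V = (Y - V) - p by ring]; exact sub_mem h3 (hle1 hp)
    · rw [show (X - q) * (Y - p) - algebraMap A' B' (α + a)
        = (X * Y - algebraMap A' B' α - (algebraMap A' B' a + p * X + q * Y)) + q * p by rw [map_add]; ring]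
      refine add_mem h ?_
      refine Ideal.pow_le_pow_right ?_ ((pow_add n (k + 1) (k + 1)).symm ▸ Ideal.mul_mem_mul hq hp)
      omega
    · simpa using Ideal.pow_le_pow_right (Nat.le_succ k) ha
    · simpa using neg_mem (hle hq)
    · simpa using neg_mem (hle hp)
  have h0 : P 0 (0, U, V) := by
    refine ⟨zero_mem _, by simp, by simp, ?_⟩
    rw [zero_add, pow_one, map_zero, sub_zero, hn0, IsScalarTower.algebraMap_eq A B B', ← Ideal.map_map]
    show algebraMap B B' u * algebraMap B B' v ∈ _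
    rw [← map_mul]
    exact Ideal.mem_map_of_mem _ huv
  choose next hnextP hnextd using hnext
  let f : (k : ℕ) → {t // P k t} := fun k => Nat.rec ⟨_, h0⟩ (fun k t => ⟨next k t.1 t.2, hnextP k t.1 t.2⟩) k
  haveI : IsAdicComplete (maximalIdeal A') A' := inferInstance
  haveI : IsAdicComplete (maximalIdeal B') B' := inferInstance
  obtain ⟨α, hα⟩ := exists_limit (maximalIdeal A') (fun k => (f k).1.1) fun k => (hnextd k _ (f k).2).1
  obtain ⟨X, hX⟩ := exists_limit (maximalIdeal B') (fun k => (f k).1.2.1) fun k => (hnextd k _ (f k).2).2.1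
  obtain ⟨Y, hY⟩ := exists_limit (maximalIdeal B') (fun k => (f k).1.2.2) fun k => (hnextd k _ (f k).2).2.2
  have hαmem : α ∈ maximalIdeal A' := by
    have := add_mem (pow_one (maximalIdeal A') ▸ hα 1) (f 1).2.1
    simpa using this
  have hXU : X - U ∈ n := mem_of_forall_sup_pow n hnle _ fun k => by
    rw [show X - U = ((f k).1.2.1 - U) + (X - (f k).1.2.1) by ring]
    exact Submodule.add_mem_sup (f k).2.2.1 (hX k)
  have hYV : Y - V ∈ n := mem_of_forall_sup_pow n hnle _ fun k => by
    rw [show Y - V = ((f k).1.2.2 - V) + (Y - (f k).1.2.2) by ring]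
    exact Submodule.add_mem_sup (f k).2.2.2.1 (hY k)
  have hXY : X * Y = algebraMap A' B' α := by
    rw [← sub_eq_zero, ← Ideal.mem_bot,
      ← Ideal.iInf_pow_eq_bot_of_isLocalRing (I := maximalIdeal B') (maximalIdeal.isMaximal _).ne_top, Ideal.mem_iInf]
    intro k
    rw [show X * Y - algebraMap A' B' α = ((f k).1.2.1 * (f k).1.2.2 - algebraMap A' B' (f k).1.1)
      + (X - (f k).1.2.1) * Y + (f k).1.2.1 * (Y - (f k).1.2.2)
      - algebraMap A' B' (α - (f k).1.1) by rw [map_sub]; ring]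
    refine sub_mem (add_mem (add_mem ?_ (Ideal.mul_mem_right _ _ (hX k))) (Ideal.mul_mem_left _ _ (hY k))) ?_
    · exact Ideal.pow_le_pow_right (Nat.le_succ k) (Ideal.pow_right_mono hnle _ (f k).2.2.2.2)
    · refine Ideal.pow_right_mono hnle k ?_
      rw [hn, ← Ideal.map_pow]
      exact Ideal.mem_map_of_mem _ (hα k)
  have hXm : X ∈ maximalIdeal B' ∧ Y ∈ maximalIdeal B' := by
    constructor
    · have : U ∈ maximalIdeal B' := hgen' ▸ Submodule.mem_sup_left (Ideal.subset_span (by simp))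
      simpa using add_mem (hnle hXU) this
    · have : V ∈ maximalIdeal B' := hgen' ▸ Submodule.mem_sup_left (Ideal.subset_span (by simp))
      simpa using add_mem (hnle hYV) this
  obtain ⟨φ, hφ⟩ := MvPSLib.exists_algHom (A := A') (maximalIdeal B') ![X, Y] fun i => by
    fin_cases i <;> simp [hXm.1, hXm.2]
  have hφC : ∀ a, φ (MvPowerSeries.C a) = algebraMap A' B' a := fun a => φ.commutes a
  have hφs : Function.Surjective φ := by
    haveI := CAlgCohen.isAdicComplete_mvPowerSeries A' 2
    have hmap : (maximalIdeal (MvPowerSeries (Fin 2) A')).map φ.toRingHom = maximalIdeal B' := by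
      apply le_antisymm
      · rw [CAlgCohen.maximalIdeal_mvPowerSeries, Ideal.map_sup, Ideal.map_map, FSAdic.augIdeal_eq_span, Ideal.map_span]
        refine sup_le ?_ ?_
        · rw [Ideal.map_le_iff_le_comap]
          intro a ha
          show φ (MvPowerSeries.C a) ∈ maximalIdeal B'
          rw [hφC]
          exact hnle (hn ▸ Ideal.mem_map_of_mem _ ha)
        · rw [Ideal.span_le]
          rintro _ ⟨_, ⟨i, rfl⟩, rfl⟩
          show φ (MvPowerSeries.X i) ∈ maximalIdeal B'
          rw [hφ]; fin_cases i <;> simp [hXm.1, hXm.2]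
      · rw [hgen']
        have hnφ : n ≤ (maximalIdeal (MvPowerSeries (Fin 2) A')).map φ.toRingHom := by
          rw [hn, Ideal.map_le_iff_le_comap]
          intro a ha
          rw [Ideal.mem_comap, ← hφC]
          refine Ideal.mem_map_of_mem φ.toRingHom ?_
          rw [mem_maximalIdeal, mem_nonunits_iff] at ha ⊢
          rwa [MvPowerSeries.isUnit_iff_constantCoeff, MvPowerSeries.constantCoeff_C]
        refine sup_le (Ideal.span_le.2 ?_) hnφ
        have hXmem : ∀ i : Fin 2, φ (MvPowerSeries.X i) ∈ (maximalIdeal (MvPowerSeries (Fin 2) A')).map φ.toRingHom :=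
          fun i => Ideal.mem_map_of_mem φ.toRingHom (by
            rw [mem_maximalIdeal, mem_nonunits_iff, MvPowerSeries.isUnit_iff_constantCoeff, MvPowerSeries.constantCoeff_X]
            exact not_isUnit_zero)
        rintro x (rfl | rfl)
        · have := sub_mem (hXmem 0) (hnφ hXU)
          rw [hφ] at this
          simpa using this
        · have := sub_mem (hXmem 1) (hnφ hYV)
          rw [hφ] at this
          simpa using this
    have : IsHausdorff ((maximalIdeal (MvPowerSeries (Fin 2) A')).map φ.toRingHom) B' :=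
      hmap.symm ▸ (inferInstance : IsHausdorff (maximalIdeal B') B')
    refine surjective_of_mk_map_comp_surjective (I := maximalIdeal (MvPowerSeries (Fin 2) A')) φ.toRingHom
      (haus := this) fun x => ?_
    obtain ⟨b, rfl⟩ := Ideal.Quotient.mk_surjective x
    obtain ⟨a, ha⟩ := hres' b
    refine ⟨MvPowerSeries.C (algebraMap A A' a), ?_⟩
    show Ideal.Quotient.mk _ (φ (MvPowerSeries.C (algebraMap A A' a))) = _
    rw [hφC, ← IsScalarTower.algebraMap_apply A A' B', Ideal.Quotient.eq, hmap, ← neg_sub]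
    exact neg_mem ha
  let I : Ideal (MvPowerSeries (Fin 2) A') :=
    Ideal.span {MvPowerSeries.X 0 * MvPowerSeries.X 1 - MvPowerSeries.C α}
  have hI : ∀ x ∈ I, φ x = 0 := by
    intro x hx
    obtain ⟨c, rfl⟩ := Ideal.mem_span_singleton'.1 hx
    rw [map_mul, map_sub, map_mul, hφ, hφ, hφC]
    simp [hXY]
  refine ⟨‹_›, ‹_›, α, AdicCompletion.maximalIdeal_eq_map (R := A) ▸ hαmem, Ideal.Quotient.liftₐ I φ hI,
    fun b => ?_, ?_, ?_⟩
  · obtain ⟨x, rfl⟩ := hφs b
    exact ⟨Ideal.Quotient.mk I x, rfl⟩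
  · show φ (MvPowerSeries.X 0) - _ ∈ _
    rw [hφ]; exact hXU
  · show φ (MvPowerSeries.X 1) - _ ∈ _
    rw [hφ]; exact hYV

end Groth.Agent.NodeLift
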