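import Groth.Agent.NodeLift.Basic
import Groth.Agent.EtLocalLib.ComplCrit
import Mathlib

/-!
# Lemmas for the flat case of the nodal normal form
-/

set_option autoImplicit false

universe u

open IsLocalRing

namespace Groth.Agent.NodeLift

theorem injective_of_surjective_ringHom {R : Type u} [CommRing R] [IsNoetherianRing R] (f : R →+* R)
    (hf : Function.Surjective f) : Function.Injective f := by
  obtain ⟨n, hn⟩ := monotone_stabilizes_iff_noetherian.2 ‹IsNoetherianRing R›
    ⟨fun n => RingHom.ker (f ^ n), monotone_nat_of_le_succ fun n x hx => by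
      rw [RingHom.mem_ker, RingHom.coe_pow] at hx ⊢
      rw [Function.iterate_succ_apply', hx, map_zero]⟩
  refine (injective_iff_map_eq_zero f).2 fun x hx => ?_
  obtain ⟨y, rfl⟩ := hf.iterate n x
  have : y ∈ RingHom.ker (f ^ (n + 1)) := by
    rw [RingHom.mem_ker, RingHom.coe_pow, Function.iterate_succ_apply', hx]
  have e : RingHom.ker (f ^ n) = RingHom.ker (f ^ (n + 1)) := hn (n + 1) (Nat.le_succ n)
  rw [← e, RingHom.mem_ker, RingHom.coe_pow] at this
  exact this

/-- A power series with all coefficients in a finitely generated ideal. -/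
theorem mem_map_C_of_coeff_mem {A : Type*} [CommRing A] {σ : Type*} {I : Ideal A} (hI : I.FG)
    (p : MvPowerSeries σ A) (hp : ∀ d, MvPowerSeries.coeff d p ∈ I) :
    p ∈ I.map MvPowerSeries.C := by
  obtain ⟨n, g, rfl⟩ := Submodule.fg_iff_exists_fin_generating_family.1 hI
  choose a ha using fun d => Submodule.mem_span_range_iff_exists_fun A |>.1 (hp d)
  let c : Fin n → MvPowerSeries σ A := fun i d => a d i
  have : p = ∑ i, MvPowerSeries.C (g i) * c i := by
    ext d
    rw [map_sum, ← ha d]
    exact Finset.sum_congr rfl fun i _ => by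
      rw [MvPowerSeries.coeff_C_mul]; exact mul_comm _ _
  rw [this]
  exact sum_mem fun i _ => Ideal.mul_mem_right _ _ (Ideal.mem_map_of_mem _ (Submodule.subset_span ⟨i, rfl⟩))

/-- Kernel inside `I R` of a surjection onto a flat algebra is `I * kernel`. -/
theorem inf_map_le_mul {A R B : Type u} [CommRing A] [CommRing R] [CommRing B] [Algebra A R] [Algebra A B]
    [Module.Flat A B] (ψ : R →ₐ[A] B) (hψ : Function.Surjective ψ) (I : Ideal A) :
    RingHom.ker ψ ⊓ I.map (algebraMap A R) ≤ I.map (algebraMap A R) * RingHom.ker ψ := by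
  rintro x ⟨hx0, hx⟩
  rw [SetLike.mem_coe, Ideal.map, Submodule.mem_span_iff_exists_finset_subset] at hx
  obtain ⟨r, T, hT, -, hsum⟩ := hx
  choose m hm hme using fun t : T => hT t.2
  have hrel : ∑ t : T, m t • ψ (r t.1) = 0 := by
    have hx0' : ψ x = 0 := hx0
    rw [← hx0', ← hsum, map_sum, ← Finset.sum_coe_sort T]
    exact Finset.sum_congr rfl fun t _ => by
      rw [Algebra.smul_def, smul_eq_mul, map_mul, ← hme t, ψ.commutes, mul_comm]
  obtain ⟨k, a, y, hy, ha⟩ := Module.Flat.isTrivialRelation_of_sum_smul_eq_zero (R := A) (M := B) (f := m) (x := fun t => ψ (r t.1)) hrel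
  choose z hz using fun j => hψ (y j)
  have hdecomp : x = ∑ t : T, algebraMap A R (m t) * (r t.1 - ∑ j, a t j • z j) := by
    simp only [mul_sub, Finset.sum_sub_distrib]
    rw [show ∑ t : T, algebraMap A R (m t) * ∑ j, a t j • z j = ∑ j, (∑ t : T, m t * a t j) • z j by
      simp only [Finset.mul_sum, Finset.sum_smul]
      rw [Finset.sum_comm]
      exact Finset.sum_congr rfl fun j _ => Finset.sum_congr rfl fun t _ => by
        rw [Algebra.smul_def, Algebra.smul_def, map_mul, mul_assoc]]
    simp only [ha, zero_smul, Finset.sum_const_zero, sub_zero]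
    rw [← hsum, ← Finset.sum_coe_sort T]
    exact Finset.sum_congr rfl fun t _ => by rw [smul_eq_mul, ← hme t, mul_comm]
  rw [hdecomp]
  refine sum_mem fun t _ => Ideal.mul_mem_mul (Ideal.mem_map_of_mem _ (hm t)) ?_
  rw [RingHom.mem_ker, map_sub, map_sum, sub_eq_zero]
  refine (hy t).trans ?_
  exact Finset.sum_congr rfl fun j _ => by rw [map_smul, hz]

end Groth.Agent.NodeLift
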